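import Mathlib

namespace Groth.Agent.H5.EFT

open TensorProduct

universe u

set_option maxHeartbeats 400000 in
theorem exists_field_maximal (k : Type u) [Field k] (B : Type u) [CommRing B] [Algebra k B]
    [Algebra.FiniteType k B] (𝔮 : Ideal B) [𝔮.IsPrime] :
    ∃ (K : Type u) (_ : Field K) (_ : Algebra k K) (A : Type u) (_ : CommRing A)
      (_ : Algebra K A) (_ : Algebra k A) (_ : IsScalarTower k K A) (_ : Algebra.FiniteType K A)
      (m : Ideal A) (_ : m.IsMaximal),
      Nonempty (Localization.AtPrime 𝔮 ≃ₐ[k] Localization.AtPrime m) := by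
  classical
  let D := B ⧸ 𝔮
  obtain ⟨s, hs⟩ := exists_isTranscendenceBasis k D
  have hmk : ∀ i : s, ∃ b : B, Ideal.Quotient.mk 𝔮 b = i.1 := fun i => Ideal.Quotient.mk_surjective _
  choose t ht using hmk
  let P := MvPolynomial s k
  let φ : P →ₐ[k] B := MvPolynomial.aeval t
  letI : Algebra P B := φ.toRingHom.toAlgebra
  haveI : IsScalarTower k P B := IsScalarTower.of_algebraMap_eq' φ.comp_algebraMap.symm
  have hφD : ∀ p : P, Ideal.Quotient.mk 𝔮 (φ p) = MvPolynomial.aeval (Subtype.val : s → D) p := by
    intro p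
    have : (Ideal.Quotient.mkₐ k 𝔮).comp φ = MvPolynomial.aeval (Subtype.val : s → D) := by
      apply MvPolynomial.algHom_ext
      intro i
      simp [φ, ht]
    exact congrArg (fun f : P →ₐ[k] D => f p) this
  have hinj : ∀ p : P, p ≠ 0 → φ p ∉ 𝔮 := by
    intro p hp hmem
    have h0 : MvPolynomial.aeval (Subtype.val : s → D) p = 0 := by
      rw [← hφD, Ideal.Quotient.eq_zero_iff_mem]; exact hmem
    exact hp (hs.1 (by rw [h0, map_zero]))
  let K := FractionRing P
  let M := Algebra.algebraMapSubmonoid B (nonZeroDivisors P)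
  let A := Localization M
  have hM : ∀ x ∈ M, x ∉ 𝔮 := by
    rintro _ ⟨p, hp, rfl⟩
    exact hinj p (nonZeroDivisors.ne_zero hp)
  have hunits : ∀ y : nonZeroDivisors P,
      IsUnit (((algebraMap B A).comp (algebraMap P B)) y) := by
    intro y
    exact IsLocalization.map_units A (⟨algebraMap P B y, ⟨y, y.2, rfl⟩⟩ : M)
  let ψ : K →+* A := IsLocalization.lift (M := nonZeroDivisors P) hunits
  letI : Algebra K A := ψ.toAlgebra
  have hψ : ∀ p : P, ψ (algebraMap P K p) = algebraMap B A (algebraMap P B p) := by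
    intro p
    exact IsLocalization.lift_eq hunits p
  haveI : IsScalarTower k K A := by
    apply IsScalarTower.of_algebraMap_eq
    intro c
    show algebraMap k A c = ψ (algebraMap k K c)
    rw [IsScalarTower.algebraMap_apply k P K, hψ, ← IsScalarTower.algebraMap_apply k P B,
      ← IsScalarTower.algebraMap_apply k B A]
  -- finite type
  have hft : Algebra.FiniteType K A := by
    let Φ : K ⊗[k] B →ₐ[K] A :=
      Algebra.TensorProduct.productLeftAlgHom (Algebra.ofId K A) (IsScalarTower.toAlgHom k B A)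
    have hΦ : Function.Surjective Φ := by
      intro a
      obtain ⟨b, ⟨_, p, hp, rfl⟩, rfl⟩ := IsLocalization.exists_mk'_eq M a
      let u : K := IsLocalization.mk' K (1 : P) (⟨p, hp⟩ : nonZeroDivisors P)
      refine ⟨u ⊗ₜ b, ?_⟩
      have h1 : Φ (u ⊗ₜ b) = ψ u * algebraMap B A b := by
        simp [Φ, Algebra.ofId_apply]
        rfl
      rw [h1, IsLocalization.eq_mk'_iff_mul_eq]
      have h2 : ψ u * algebraMap B A (algebraMap P B p) = 1 := by
        rw [← hψ, ← map_mul, IsLocalization.mk'_spec, map_one, map_one]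
      calc ψ u * algebraMap B A b * algebraMap B A (algebraMap P B p)
          = (ψ u * algebraMap B A (algebraMap P B p)) * algebraMap B A b := by ring
        _ = algebraMap B A b := by rw [h2, one_mul]
    exact Algebra.FiniteType.of_surjective Φ hΦ
  -- the ideal
  have hdisj : Disjoint (M : Set B) (𝔮 : Set B) := by
    rw [Set.disjoint_left]
    intro x hx hx'
    exact hM x hx hx'
  let m : Ideal A := 𝔮.map (algebraMap B A)
  have hmprime : m.IsPrime := IsLocalization.isPrime_of_isPrime_disjoint M A 𝔮 inferInstance hdisj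
  have hcomap : m.comap (algebraMap B A) = 𝔮 :=
    IsLocalization.comap_map_of_isPrime_disjoint M A inferInstance hdisj
  have hmmax : m.IsMaximal := by
    rw [Ideal.isMaximal_def]
    refine ⟨hmprime.ne_top, ?_⟩
    intro J hJ
    obtain ⟨x, hxJ, hxm⟩ := Set.exists_of_ssubset hJ
    obtain ⟨b, σ, rfl⟩ := IsLocalization.exists_mk'_eq M x
    have hbJ : algebraMap B A b ∈ J := by
      rw [← IsLocalization.mk'_spec A b σ]
      exact J.mul_mem_right _ hxJ
    have hb𝔮 : b ∉ 𝔮 := by
      intro hb
      apply hxm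
      show IsLocalization.mk' A b σ ∈ m
      rw [IsLocalization.mk'_mem_map_algebraMap_iff]
      exact ⟨1, M.one_mem, by simpa using hb⟩
    have hbD : Ideal.Quotient.mk 𝔮 b ≠ 0 := by
      rwa [Ne, Ideal.Quotient.eq_zero_iff_mem]
    haveI := hs.isAlgebraic
    obtain ⟨r, hr0, hdvd⟩ := (Algebra.IsAlgebraic.isAlgebraic (R := Algebra.adjoin k (Set.range
      (Subtype.val : s → D))) (Ideal.Quotient.mk 𝔮 b)).exists_nonzero_dvd
      (mem_nonZeroDivisors_of_ne_zero hbD)
    have hr : r.1 ∈ (MvPolynomial.aeval (R := k) (Subtype.val : s → D)).range := by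
      rw [← Algebra.adjoin_range_eq_range_aeval]; exact r.2
    obtain ⟨p, hp⟩ := hr
    replace hp : MvPolynomial.aeval (R := k) (Subtype.val : s → D) p = r.1 := hp
    have hp0 : p ≠ 0 := by
      rintro rfl
      apply hr0
      ext
      rw [← hp, map_zero]; rfl
    obtain ⟨d, hd⟩ := hdvd
    obtain ⟨d, rfl⟩ := Ideal.Quotient.mk_surjective d
    have h3 : φ p - b * d ∈ 𝔮 := by
      rw [← Ideal.Quotient.eq_zero_iff_mem, map_sub, map_mul, hφD, hp, sub_eq_zero]
      exact hd
    have h4 : algebraMap B A (φ p) ∈ J := by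
      have : algebraMap B A (φ p) = algebraMap B A (φ p - b * d) + algebraMap B A b * algebraMap B A d := by
        rw [← map_mul, ← map_add]; congr 1; ring
      rw [this]
      exact J.add_mem (hJ.le (Ideal.mem_map_of_mem _ h3)) (J.mul_mem_right _ hbJ)
    have h5 : IsUnit (algebraMap B A (φ p)) :=
      IsLocalization.map_units A (⟨φ p, ⟨p, mem_nonZeroDivisors_of_ne_zero hp0, rfl⟩⟩ : M)
    exact Ideal.eq_top_of_isUnit_mem _ h4 h5
  refine ⟨K, inferInstance, inferInstance, A, inferInstance, inferInstance, inferInstance,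
    inferInstance, hft, m, hmmax, ?_⟩
  have h : IsLocalization (m.comap (algebraMap B A)).primeCompl (Localization.AtPrime m) :=
    IsLocalization.isLocalization_isLocalization_atPrime_isLocalization M
      (Localization.AtPrime m) m
  have heq : (m.comap (algebraMap B A)).primeCompl = 𝔮.primeCompl := by
    ext x
    simp only [Ideal.mem_primeCompl_iff, hcomap]
  haveI : IsLocalization 𝔮.primeCompl (Localization.AtPrime m) := heq ▸ h
  exact ⟨(IsLocalization.algEquiv 𝔮.primeCompl (Localization.AtPrime 𝔮)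
    (Localization.AtPrime m)).restrictScalars k⟩

end Groth.Agent.H5.EFT
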