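import Mathlib
import Groth.Agent.Lib.Helper5.EFT.A
import Groth.Agent.Lib.Helper5.ES.B

namespace Groth.Agent.H5.EFT

universe u

theorem essFiniteType_local (k : Type u) [Field k] (S : Type u) [CommRing S] [IsLocalRing S]
    [Algebra k S] [Algebra.EssFiniteType k S] :
    ∃ (K : Type u) (_ : Field K) (_ : Algebra k K) (A : Type u) (_ : CommRing A)
      (_ : Algebra K A) (_ : Algebra k A) (_ : IsScalarTower k K A) (_ : Algebra.FiniteType K A)
      (m : Ideal A) (_ : m.IsMaximal), Nonempty (S ≃ₐ[k] Localization.AtPrime m) := by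
  let B₀ := Algebra.EssFiniteType.subalgebra k S
  let M := Algebra.EssFiniteType.submonoid k S
  have hM : M = (IsUnit.submonoid S).comap (algebraMap B₀ S) := rfl
  obtain ⟨K, i1, i2, A, i3, i4, i5, i6, i7, m, i8, ⟨e⟩⟩ :=
    exists_field_maximal k B₀ (Groth.Agent.H5.ES.q₀ B₀ S)
  exact ⟨K, i1, i2, A, i3, i4, i5, i6, i7, m, i8,
    ⟨(Groth.Agent.H5.ES.locEquiv (A := k) M hM).symm.trans e⟩⟩

end Groth.Agent.H5.EFT
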